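import Mathlib
import Cfsg.Prelude.Def_ChevStructure
import Cfsg.Prelude.Def_ChevG2
import Cfsg.Prelude.Def_ChevB2
import Cfsg.Prelude.Def_ChevD4
import Cfsg.Prelude.Def_ChevF4
import Cfsg.Prelude.Def_ChevE6
import Cfsg.Prelude.Def_ChevE7
import Cfsg.Prelude.Def_ChevE8
set_option linter.all false

-- part: ChevStructure/Level
section
/-!
Matrices that raise a level function by at least `k`, and the descending central series of the
unitriangular group they define.
-/

set_option autoImplicit false

namespace Cfsg.Agent.ChevStructure.Level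


open scoped commutatorElement

variable {ι : Type*} {F : Type*} [Field F] (ℓ : ι → ℕ)

/-- The matrix `M` raises the level `ℓ` by at least `k`: an entry `M i j` can be nonzero only if
`ℓ j + k ≤ ℓ i`. -/
def Raises (k : ℕ) (M : Matrix ι ι F) : Prop := ∀ i j, M i j ≠ 0 → ℓ j + k ≤ ℓ i

variable {ℓ}

theorem Raises.mono {k k' : ℕ} {M : Matrix ι ι F} (h : Raises ℓ k M) (hk : k' ≤ k) :
    Raises ℓ k' M := fun i j hij => (Nat.add_le_add_left hk _).trans (h i j hij)

theorem raises_zero (k : ℕ) : Raises ℓ k (0 : Matrix ι ι F) := fun _ _ h => absurd rfl h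

theorem Raises.add {k : ℕ} {M N : Matrix ι ι F} (hM : Raises ℓ k M) (hN : Raises ℓ k N) :
    Raises ℓ k (M + N) := by
  intro i j h
  by_cases h1 : M i j = 0
  · by_cases h2 : N i j = 0
    · exact absurd (by simp [h1, h2]) h
    · exact hN i j h2
  · exact hM i j h1

theorem Raises.neg {k : ℕ} {M : Matrix ι ι F} (hM : Raises ℓ k M) : Raises ℓ k (-M) := by
  intro i j h
  exact hM i j (by simpa using h)

theorem Raises.sub {k : ℕ} {M N : Matrix ι ι F} (hM : Raises ℓ k M) (hN : Raises ℓ k N) :
    Raises ℓ k (M - N) := by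
  rw [sub_eq_add_neg]
  exact hM.add hN.neg

theorem Raises.sum {k : ℕ} {α : Type*} (s : Finset α) (M : α → Matrix ι ι F)
    (h : ∀ a ∈ s, Raises ℓ k (M a)) : Raises ℓ k (∑ a ∈ s, M a) := by
  classical
  induction s using Finset.induction_on with
  | empty => simpa using raises_zero k
  | insert a s ha ih =>
    rw [Finset.sum_insert ha]
    exact (h a (Finset.mem_insert_self a s)).add
      (ih fun b hb => h b (Finset.mem_insert_of_mem hb))

theorem raises_one [DecidableEq ι] : Raises ℓ 0 (1 : Matrix ι ι F) := by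
  intro i j h
  by_cases hij : i = j
  · subst hij; simp
  · exact absurd (Matrix.one_apply_ne hij) h

theorem Raises.mul [Fintype ι] {k l : ℕ} {M N : Matrix ι ι F} (hM : Raises ℓ k M)
    (hN : Raises ℓ l N) : Raises ℓ (k + l) (M * N) := by
  intro i j h
  rw [Matrix.mul_apply] at h
  obtain ⟨m, -, hm⟩ := Finset.exists_ne_zero_of_sum_ne_zero h
  have h1 := hM i m (left_ne_zero_of_mul hm)
  have h2 := hN m j (right_ne_zero_of_mul hm)
  omega

theorem Raises.pow [Fintype ι] [DecidableEq ι] {k : ℕ} {M : Matrix ι ι F} (hM : Raises ℓ k M)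
    (n : ℕ) : Raises ℓ (n * k) (M ^ n) := by
  induction n with
  | zero => simpa using raises_one
  | succ n ih =>
    rw [pow_succ, Nat.succ_mul]
    exact ih.mul hM

theorem Raises.eq_zero {k n : ℕ} {M : Matrix ι ι F} (hM : Raises ℓ k M) (hn : ∀ i, ℓ i < n)
    (hk : n ≤ k) : M = 0 := by
  ext i j
  by_contra h
  have h1 := hM i j h
  have h2 := hn i
  omega

variable [Fintype ι] [DecidableEq ι]

/-- If `g - 1` strictly raises a bounded level, so does `g⁻¹ - 1`. -/
theorem Raises.inv_sub_one {n k : ℕ} (hn : ∀ i, ℓ i < n) (g : GL ι F)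
    (hg : Raises ℓ (k + 1) ((g : Matrix ι ι F) - 1)) :
    Raises ℓ (k + 1) (((g⁻¹ : GL ι F) : Matrix ι ι F) - 1) := by
  set x : Matrix ι ι F := 1 - (g : Matrix ι ι F) with hx
  have hxr : Raises ℓ (k + 1) x := by
    have := hg.neg
    rwa [neg_sub] at this
  have hxn : x ^ n = 0 := (hxr.pow n).eq_zero hn (by nlinarith)
  have hgx : (g : Matrix ι ι F) = 1 - x := by rw [hx]; abel
  have hsum : (∑ i ∈ Finset.range n, x ^ i) * (g : Matrix ι ι F) = 1 := by
    rw [hgx, geom_sum_mul_neg, hxn, sub_zero]
  have hginv : ((g⁻¹ : GL ι F) : Matrix ι ι F) = ∑ i ∈ Finset.range n, x ^ i := by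
    have h1 : (g : Matrix ι ι F) * ((g⁻¹ : GL ι F) : Matrix ι ι F) = 1 := by
      rw [← Units.val_mul, mul_inv_cancel, Units.val_one]
    calc ((g⁻¹ : GL ι F) : Matrix ι ι F)
        = ((∑ i ∈ Finset.range n, x ^ i) * (g : Matrix ι ι F)) *
            ((g⁻¹ : GL ι F) : Matrix ι ι F) := by rw [hsum, one_mul]
      _ = ∑ i ∈ Finset.range n, x ^ i := by rw [mul_assoc, h1, mul_one]
  have h0 : Raises ℓ 0 ((g⁻¹ : GL ι F) : Matrix ι ι F) := by
    rw [hginv]
    exact Raises.sum _ _ fun i _ => (hxr.pow i).mono (Nat.zero_le _)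
  have h2 : ((g⁻¹ : GL ι F) : Matrix ι ι F) - 1 = ((g⁻¹ : GL ι F) : Matrix ι ι F) * x := by
    rw [hx, mul_sub, mul_one, ← Units.val_mul, inv_mul_cancel, Units.val_one]
  rw [h2]
  simpa using h0.mul hxr

variable (ℓ F)

/-- The group of all invertible matrices `g` such that `g - 1` raises the level `ℓ < n` by at least
`k + 1`. -/
def unip (n : ℕ) (hn : ∀ i, ℓ i < n) (k : ℕ) : Subgroup (GL ι F) where
  carrier := {g | Raises ℓ (k + 1) ((g : Matrix ι ι F) - 1)}
  one_mem' := by simpa using raises_zero (k + 1)
  mul_mem' := by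
    intro g h hg hh
    have e : ((g * h : GL ι F) : Matrix ι ι F) - 1 =
        ((g : Matrix ι ι F) - 1) * ((h : Matrix ι ι F) - 1) + ((g : Matrix ι ι F) - 1)
          + ((h : Matrix ι ι F) - 1) := by
      rw [Units.val_mul]; noncomm_ring
    have h1 : Raises ℓ (k + 1) (((g : Matrix ι ι F) - 1) * ((h : Matrix ι ι F) - 1)) :=
      (Raises.mul hg hh).mono (Nat.le_add_left _ _)
    show Raises ℓ (k + 1) _
    rw [e]
    exact (h1.add hg).add hh
  inv_mem' := by
    intro g hg
    exact Raises.inv_sub_one hn g hg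

variable {ℓ F}

theorem mem_unip {n : ℕ} {hn : ∀ i, ℓ i < n} {k : ℕ} {g : GL ι F} :
    g ∈ unip F ℓ n hn k ↔ Raises ℓ (k + 1) ((g : Matrix ι ι F) - 1) := Iff.rfl

theorem raises_zero_of_mem_unip {n : ℕ} {hn : ∀ i, ℓ i < n} {k : ℕ} {g : GL ι F}
    (hg : g ∈ unip F ℓ n hn k) : Raises ℓ 0 (g : Matrix ι ι F) := by
  have h1 : Raises ℓ 0 ((g : Matrix ι ι F) - 1) := Raises.mono (mem_unip.1 hg) (Nat.zero_le _)
  have h2 := h1.add raises_one
  rwa [sub_add_cancel] at h2

/-- The commutator of `unip k` and `unip 0` lies in `unip (k + 1)`. -/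
theorem commutator_mem_unip {n : ℕ} {hn : ∀ i, ℓ i < n} {k l : ℕ} {g h : GL ι F}
    (hg : g ∈ unip F ℓ n hn k) (hh : h ∈ unip F ℓ n hn l) :
    ⁅g, h⁆ ∈ unip F ℓ n hn (k + l + 1) := by
  rw [mem_unip]
  have e : ((⁅g, h⁆ : GL ι F) : Matrix ι ι F) - 1 =
      (((g : Matrix ι ι F) - 1) * ((h : Matrix ι ι F) - 1)
        - ((h : Matrix ι ι F) - 1) * ((g : Matrix ι ι F) - 1)) *
        (((h * g)⁻¹ : GL ι F) : Matrix ι ι F) := by
    have e1 : ((g : Matrix ι ι F) - 1) * ((h : Matrix ι ι F) - 1)
        - ((h : Matrix ι ι F) - 1) * ((g : Matrix ι ι F) - 1) =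
        ((g * h : GL ι F) : Matrix ι ι F) - ((h * g : GL ι F) : Matrix ι ι F) := by
      rw [Units.val_mul, Units.val_mul]; noncomm_ring
    rw [e1, sub_mul, ← Units.val_mul, ← Units.val_mul, mul_inv_cancel, Units.val_one,
      commutatorElement_def, _root_.mul_inv_rev]
    simp only [mul_assoc]
  rw [e]
  have h1 : Raises ℓ ((k + 1) + (l + 1)) (((g : Matrix ι ι F) - 1) * ((h : Matrix ι ι F) - 1)) :=
    Raises.mul (mem_unip.1 hg) (mem_unip.1 hh)
  have h2 : Raises ℓ ((k + 1) + (l + 1)) (((h : Matrix ι ι F) - 1) * ((g : Matrix ι ι F) - 1)) :=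
    (Raises.mul (mem_unip.1 hh) (mem_unip.1 hg)).mono (by omega)
  have hg0 : g ∈ unip F ℓ n hn 0 := by
    rw [mem_unip]; exact (mem_unip.1 hg).mono (by omega)
  have hh0 : h ∈ unip F ℓ n hn 0 := by
    rw [mem_unip]; exact (mem_unip.1 hh).mono (by omega)
  have h3 : Raises ℓ 0 (((h * g)⁻¹ : GL ι F) : Matrix ι ι F) :=
    raises_zero_of_mem_unip (inv_mem (mul_mem hh0 hg0))
  exact ((h1.sub h2).mul h3).mono (by omega)

/-- A subgroup of `unip 0` is nilpotent. -/
theorem isNilpotent_of_le_unip {n : ℕ} (hn : ∀ i, ℓ i < n) (H : Subgroup (GL ι F))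
    (hH : H ≤ unip F ℓ n hn 0) : Group.IsNilpotent H := by
  rw [Subgroup.nilpotent_iff_finite_descending_central_series]
  refine ⟨n, fun k => (unip F ℓ n hn k).subgroupOf H, ⟨?_, ?_⟩, ?_⟩
  · rw [Subgroup.subgroupOf_eq_top]
    exact hH
  · intro x k hx g
    rw [Subgroup.mem_subgroupOf] at hx ⊢
    exact commutator_mem_unip hx (hH g.2)
  · rw [eq_bot_iff]
    intro x hx
    rw [Subgroup.mem_subgroupOf, mem_unip] at hx
    have h0 := Raises.eq_zero hx hn (Nat.le_succ n)
    rw [Subgroup.mem_bot]
    apply Subtype.ext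
    apply Units.ext
    rw [sub_eq_zero] at h0
    rw [h0]; rfl

/-- Elements of `unip 0` are unipotent matrices. -/
theorem sub_one_pow_eq_zero {n : ℕ} {hn : ∀ i, ℓ i < n} {g : GL ι F}
    (hg : g ∈ unip F ℓ n hn 0) {m : ℕ} (hm : n ≤ m) : ((g : Matrix ι ι F) - 1) ^ m = 0 := by
  rw [mem_unip] at hg
  exact (hg.pow m).eq_zero hn (by omega)

end Cfsg.Agent.ChevStructure.Level
end

-- part: ChevStructure/PosUnip
section
/-!
The positive root elements of the tabulated Chevalley groups are strictly triangular for the level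
"index of the root (negative roots below the Cartan part, positive roots above it)".
-/

set_option autoImplicit false

namespace Cfsg.Agent.ChevStructure.PosUnip

open Cfsg Cfsg.Lie Cfsg.Agent.ChevStructure.Level

/-- Boolean check on the tables: a positive root has index `≥ nroots / 2`, its negative has index
`< nroots / 2`, and its chains increase the index. -/
def checkPos (D : ChevalleyDatum) : Bool :=
  (List.range D.nroots).all fun r =>
    !(decide (D.IsPosRoot r)) ||
      (decide (D.nroots / 2 ≤ r) && decide (D.negIdx.getD r 0 < D.nroots / 2) &&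
        (D.chain.getD r #[]).toList.all fun e => e.2.toList.all fun q => decide (e.1 < q.1))

theorem checkG2 : checkPos chevG2 = true := by decide +kernel
theorem checkB2 : checkPos chevB2 = true := by decide +kernel
theorem checkD4 : checkPos chevD4 = true := by decide +kernel
theorem checkF4 : checkPos chevF4 = true := by decide +kernel
theorem checkE6 : checkPos chevE6 = true := by decide +kernel
theorem checkE7 : checkPos chevE7 = true := by decide +kernel
theorem checkE8 : checkPos chevE8 = true := by decide +kernel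

theorem checkPos_of_mem (D : ChevalleyDatum)
    (hD : D ∈ [chevG2, chevB2, chevD4, chevF4, chevE6, chevE7, chevE8]) : checkPos D = true := by
  simp only [List.mem_cons, List.not_mem_nil, or_false] at hD
  rcases hD with h | h | h | h | h | h | h <;> rw [h]
  · exact checkG2
  · exact checkB2
  · exact checkD4
  · exact checkF4
  · exact checkE6
  · exact checkE7
  · exact checkE8

theorem rank_pos_of_mem (D : ChevalleyDatum)
    (hD : D ∈ [chevG2, chevB2, chevD4, chevF4, chevE6, chevE7, chevE8]) : 0 < D.rank := by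
  simp only [List.mem_cons, List.not_mem_nil, or_false] at hD
  rcases hD with h | h | h | h | h | h | h <;> rw [h] <;> decide

theorem check_spec {D : ChevalleyDatum} (h : checkPos D = true) {r : ℕ} (hr : D.IsPosRoot r) :
    D.nroots / 2 ≤ r ∧ D.negIdx.getD r 0 < D.nroots / 2 ∧
      ∀ e ∈ (D.chain.getD r #[]).toList, ∀ q ∈ e.2.toList, e.1 < q.1 := by
  have h0 := (List.all_eq_true.1 h) r (List.mem_range.2 hr.1)
  rw [decide_eq_true hr, Bool.not_true, Bool.false_or, Bool.and_eq_true, Bool.and_eq_true,
    decide_eq_true_eq, decide_eq_true_eq] at h0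
  refine ⟨h0.1.1, h0.1.2, fun e he q hq => ?_⟩
  have h1 := (List.all_eq_true.1 h0.2) e he
  have h2 := (List.all_eq_true.1 h1) q hq
  exact of_decide_eq_true h2

/-- The definition of `chainCoeff`, as a theorem. -/
theorem chainCoeff_def (D : ChevalleyDatum) (r s u : ℕ) : D.chainCoeff r s u =
    (((D.chain.getD r #[]).toList.filter (fun e => e.1 = s)).flatMap fun e =>
      ((e.2.toList.zipIdx).filter (fun q => q.1.1 = u)).map fun q => (q.2 + 1, q.1.2)) := rfl

theorem x_of_lt {D : ChevalleyDatum} {F : Type*} [Field F] {r : ℕ} (h : r < D.nroots) (t : F) :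
    D.x F r t = D.xMat F ⟨r, h⟩ t := dif_pos h

theorem x_of_not_lt {D : ChevalleyDatum} {F : Type*} [Field F] {r : ℕ} (h : ¬ r < D.nroots)
    (t : F) : D.x F r t = 1 := dif_neg h

/-- If all the chains of `r` increase the index, a nonempty `chainCoeff r s u` forces `s < u`. -/
theorem lt_of_chainCoeff_ne_nil {D : ChevalleyDatum} {r s u : ℕ}
    (h : ∀ e ∈ (D.chain.getD r #[]).toList, ∀ q ∈ e.2.toList, e.1 < q.1)
    (hne : D.chainCoeff r s u ≠ []) : s < u := by
  obtain ⟨km, hkm⟩ := List.exists_mem_of_ne_nil _ hne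
  rw [chainCoeff_def, List.mem_flatMap] at hkm
  obtain ⟨e, he, hkm⟩ := hkm
  rw [List.mem_filter] at he
  rw [List.mem_map] at hkm
  obtain ⟨q, hq, -⟩ := hkm
  rw [List.mem_filter] at hq
  have h1 := h e he.1 q.1 (List.fst_mem_of_mem_zipIdx hq.1)
  have h2 : e.1 = s := by simpa using he.2
  have h3 : q.1.1 = u := by simpa using hq.2
  omega

/-- The level of a basis vector. -/
def lev (D : ChevalleyDatum) : D.Idx → ℕ
  | Sum.inl _ => D.nroots / 2
  | Sum.inr s => if s.val < D.nroots / 2 then s.val else s.val + 1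

theorem lev_lt (D : ChevalleyDatum) : ∀ i, lev D i < D.nroots + 1 := by
  rintro (i | s)
  · show D.nroots / 2 < D.nroots + 1
    omega
  · show (if s.val < D.nroots / 2 then s.val else s.val + 1) < D.nroots + 1
    have := s.2
    split_ifs <;> omega

theorem raises_xMat_sub_one {D : ChevalleyDatum} {F : Type*} [Field F] {r : ℕ}
    (hr : r < D.nroots) (h1 : D.nroots / 2 ≤ r) (h2 : D.negIdx.getD r 0 < D.nroots / 2)
    (h3 : ∀ e ∈ (D.chain.getD r #[]).toList, ∀ q ∈ e.2.toList, e.1 < q.1) (t : F) :
    Raises (lev D) 1 (D.xMat F ⟨r, hr⟩ t - 1) := by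
  intro row col hne
  rw [Matrix.sub_apply] at hne
  have hxm : D.xMat F ⟨r, hr⟩ t row col ≠ (1 : Matrix D.Idx D.Idx F) row col :=
    fun h => hne (by rw [h, sub_self])
  clear hne
  rcases col with i | s
  · rcases row with i' | u
    · exfalso
      apply hxm
      show (if i' = i then (1 : F) else 0) = _
      rw [Matrix.one_apply]
      by_cases h : i' = i
      · rw [if_pos h, if_pos (by rw [h])]
      · rw [if_neg h, if_neg (fun h' => h (Sum.inl_injective h'))]
    · show D.nroots / 2 + 1 ≤ (if u.val < D.nroots / 2 then u.val else u.val + 1)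
      by_cases hu : u = ⟨r, hr⟩
      · subst hu
        show D.nroots / 2 + 1 ≤ (if r < D.nroots / 2 then r else r + 1)
        rw [if_neg (by omega)]
        omega
      · exfalso
        apply hxm
        show (if u = ⟨r, hr⟩ then _ else (0 : F)) = _
        rw [if_neg hu, Matrix.one_apply, if_neg (by simp)]
  · by_cases hs : s = ⟨r, hr⟩
    · exfalso
      apply hxm
      subst hs
      rcases row with i | u
      · show (if (⟨r, hr⟩ : Fin D.nroots) = ⟨r, hr⟩ then (0 : F) else _) = _
        rw [if_pos rfl, Matrix.one_apply, if_neg (by simp)]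
      · show (if (⟨r, hr⟩ : Fin D.nroots) = ⟨r, hr⟩ then (if u = ⟨r, hr⟩ then (1 : F) else 0)
          else _) = _
        rw [if_pos rfl, Matrix.one_apply]
        by_cases hu : u = ⟨r, hr⟩
        · rw [if_pos hu, if_pos (by rw [hu])]
        · rw [if_neg hu, if_neg (fun h' => hu (Sum.inr_injective h'))]
    · by_cases hs' : s.val = D.negIdx.getD r 0
      · rcases row with i | u
        · show (if s.val < D.nroots / 2 then s.val else s.val + 1) + 1 ≤ D.nroots / 2
          rw [if_pos (by omega)]
          omega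
        · show (if s.val < D.nroots / 2 then s.val else s.val + 1) + 1 ≤
            (if u.val < D.nroots / 2 then u.val else u.val + 1)
          by_cases hu : u = s
          · exfalso
            apply hxm
            show (if s = ⟨r, hr⟩ then (if u = ⟨r, hr⟩ then (1 : F) else 0)
              else if s.val = D.negIdx.getD r 0 then (if u = s then (1 : F) else _) else _) = _
            rw [if_neg hs, if_pos hs', if_pos hu, Matrix.one_apply, if_pos (by rw [hu])]
          · by_cases hu' : u = ⟨r, hr⟩
            · subst hu'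
              show (if s.val < D.nroots / 2 then s.val else s.val + 1) + 1 ≤
                (if r < D.nroots / 2 then r else r + 1)
              rw [if_pos (by omega), if_neg (by omega)]
              omega
            · exfalso
              apply hxm
              show (if s = ⟨r, hr⟩ then (if u = ⟨r, hr⟩ then (1 : F) else 0)
                else if s.val = D.negIdx.getD r 0 then
                  (if u = s then (1 : F) else if u = ⟨r, hr⟩ then -(t ^ 2) else 0) else _) = _
              rw [if_neg hs, if_pos hs', if_neg hu, if_neg hu', Matrix.one_apply,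
                if_neg (fun h' => hu (Sum.inr_injective h'))]
      · rcases row with i | u
        · exfalso
          apply hxm
          show (if s = ⟨r, hr⟩ then (0 : F) else if s.val = D.negIdx.getD r 0 then _ else (0 : F))
            = _
          rw [if_neg hs, if_neg hs', Matrix.one_apply, if_neg (by simp)]
        · show (if s.val < D.nroots / 2 then s.val else s.val + 1) + 1 ≤
            (if u.val < D.nroots / 2 then u.val else u.val + 1)
          have hne : D.chainCoeff r s.val u.val ≠ [] := by
            intro hnil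
            apply hxm
            show (if s = ⟨r, hr⟩ then (if u = ⟨r, hr⟩ then (1 : F) else 0)
                else if s.val = D.negIdx.getD r 0 then
                  (if u = s then (1 : F) else if u = ⟨r, hr⟩ then -(t ^ 2) else 0) else
                  (if u = s then (1 : F) else 0) +
                    ((D.chainCoeff r s.val u.val).map fun km => ((km.2 : ℤ) : F) * t ^ km.1).sum)
                    = _
            rw [if_neg hs, if_neg hs', hnil, List.map_nil, List.sum_nil, add_zero,
              Matrix.one_apply]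
            by_cases hu : u = s
            · rw [if_pos hu, if_pos (by rw [hu])]
            · rw [if_neg hu, if_neg (fun h' => hu (Sum.inr_injective h'))]
          have hlt := lt_of_chainCoeff_ne_nil h3 hne
          split_ifs <;> omega

/-- `U` is contained in the group of matrices that are unitriangular for the level `lev`. -/
theorem posUnipotent_le_unip {D : ChevalleyDatum} (hc : checkPos D = true) (F : Type*) [Field F] :
    D.posUnipotent F ≤ unip F (lev D) (D.nroots + 1) (lev_lt D) 0 := by
  refine (Subgroup.closure_le _).2 ?_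
  rintro g ⟨r, t, hr, hg⟩
  obtain ⟨h1, h2, h3⟩ := check_spec hc hr
  show Raises (lev D) 1 ((g : Matrix D.Idx D.Idx F) - 1)
  rw [hg, x_of_lt hr.1]
  exact raises_xMat_sub_one hr.1 h1 h2 h3 t

end Cfsg.Agent.ChevStructure.PosUnip
end
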