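import Cfsg.Prelude.Def_ChevWords
set_option linter.all false

/-!
Transport of root elements and of Chevalley groups along ring homomorphisms / isomorphisms of fields
(possibly in different universes).
-/

set_option autoImplicit false

namespace Cfsg.Agent.ChevStructure.FieldMap

open Cfsg.Lie

universe u v

variable {F : Type u} {K : Type v} [Field F] [Field K]

theorem xMat_map (D : ChevalleyDatum) (f : F →+* K) (r : Fin D.nroots) (t : F) :
    (D.xMat F r t).map f = D.xMat K r (f t) := by
  ext row col
  rcases row with i' | u <;> rcases col with i | s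
  · show f (if i' = i then 1 else 0) = (if i' = i then 1 else 0)
    split <;> simp
  · simp only [Matrix.map_apply, ChevalleyDatum.xMat, Matrix.of_apply]
    split_ifs <;> simp
  · simp only [Matrix.map_apply, ChevalleyDatum.xMat, Matrix.of_apply]
    split_ifs <;> simp
  · simp only [Matrix.map_apply, ChevalleyDatum.xMat, Matrix.of_apply]
    split_ifs <;> simp [map_list_sum, Function.comp_def]

theorem x_map (D : ChevalleyDatum) (f : F →+* K) (r : ℕ) (t : F) :
    (D.x F r t).map f = D.x K r (f t) := by
  unfold ChevalleyDatum.x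
  split_ifs with h
  · exact xMat_map D f ⟨r, h⟩ t
  · exact Matrix.map_one f (map_zero f) (map_one f)

theorem wordMat_map (D : ChevalleyDatum) (f : F →+* K) (w : List (ℕ × F)) :
    (D.wordMat F w).map f = D.wordMat K (w.map fun p => (p.1, f p.2)) := by
  unfold ChevalleyDatum.wordMat
  induction w with
  | nil => exact Matrix.map_one f (map_zero f) (map_one f)
  | cons p w ih =>
    simp only [List.map_cons, List.prod_cons]
    rw [Matrix.map_mul, x_map, ih]

/-- The isomorphism of general linear groups given by a field isomorphism. -/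
noncomputable def glEquiv (D : ChevalleyDatum) (f : F ≃+* K) : GL D.Idx F ≃* GL D.Idx K :=
  Units.mapEquiv (RingEquiv.mapMatrix f).toMulEquiv

theorem glEquiv_coe (D : ChevalleyDatum) (f : F ≃+* K) (g : GL D.Idx F) :
    ((glEquiv D f g : GL D.Idx K) : Matrix D.Idx D.Idx K) = (g : Matrix D.Idx D.Idx F).map f := rfl

theorem glEquiv_symm_coe (D : ChevalleyDatum) (f : F ≃+* K) (g : GL D.Idx K) :
    (((glEquiv D f).symm g : GL D.Idx F) : Matrix D.Idx D.Idx F) = (g : Matrix D.Idx D.Idx K).map f.symm := rfl

theorem map_group (D : ChevalleyDatum) (f : F ≃+* K) :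
    (D.group F).map (glEquiv D f).toMonoidHom = D.group K := by
  unfold ChevalleyDatum.group
  rw [MonoidHom.map_closure]
  congr 1
  ext g
  constructor
  · rintro ⟨g, ⟨r, t, h⟩, rfl⟩
    refine ⟨r, f t, ?_⟩
    show (glEquiv D f g : Matrix D.Idx D.Idx K) = _
    rw [glEquiv_coe, h]
    exact xMat_map D (f : F →+* K) r t
  · rintro ⟨r, t, h⟩
    refine ⟨(glEquiv D f).symm g, ⟨r, f.symm t, ?_⟩, ?_⟩
    · rw [glEquiv_symm_coe, h]
      exact xMat_map D (f.symm : K →+* F) r t
    · exact (glEquiv D f).apply_symm_apply g

/-- A field isomorphism induces an isomorphism of Chevalley groups. -/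
noncomputable def groupEquivOfRingEquiv (D : ChevalleyDatum) (f : F ≃+* K) : D.group F ≃* D.group K :=
  ((glEquiv D f).subgroupMap (D.group F)).trans (MulEquiv.subgroupCongr (map_group D f))

theorem groupEquivOfRingEquiv_coe (D : ChevalleyDatum) (f : F ≃+* K) (g : D.group F) :
    (((groupEquivOfRingEquiv D f g : D.group K) : GL D.Idx K) : Matrix D.Idx D.Idx K)
      = (((g : GL D.Idx F)) : Matrix D.Idx D.Idx F).map f := rfl

end Cfsg.Agent.ChevStructure.FieldMap
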